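import Groth.Agent.AlgSpDvr.Main

/-!
Discrete valuation rings through points in the closure of an image.
-/

set_option autoImplicit false
set_option backward.isDefEq.respectTransparency.types false

universe u

open CategoryTheory CategoryTheory.Limits AlgebraicGeometry Opposite AlgSp Topology IsLocalRing

namespace Groth.Agent.AlgSpDvr

open Groth.Agent.AlgSpLib Groth.Agent.AlgSpRefinedVal

variable {S : Scheme.{u}}

theorem exists_dvr_square {X Y : Sp S} (hX : IsAlgSpace X) (hY : IsAlgSpace Y) {f : X ⟶ Y}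
    (hlft : LocP @LocallyOfFiniteType f) (hqc : IsQuasiCompactMor f) (hN : IsLocNoethSp Y) {y : Points Y}
    (hy : y ∈ closure (Set.range (Points.map f))) :
    ∃ (A : Type u) (_ : CommRing A) (_ : IsDomain A) (_ : IsDiscreteValuationRing A)
      (a : Spec (CommRingCat.of A) ⟶ S) (α : (yon S).obj (Over.mk a) ⟶ Y)
      (κ : (yon S).obj (Over.mk (Spec.map (CommRingCat.ofHom (algebraMap A (FractionRing A))) ≫ a)) ⟶ X),
      κ ≫ f = (yon S).map (Over.homMk (Spec.map (CommRingCat.ofHom (algebraMap A (FractionRing A))))) ≫ α ∧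
      Points.ofPt α (closedPoint A) = y := by
  obtain ⟨V, bV, v, hV, hbV, rfl⟩ := exists_affine_chart_point hY y
  haveI : IsAffine V.left := hV
  haveI : IsLocallyNoetherian V.left := AlgSpPts.isLocallyNoetherian_of_chart hN hbV
  have sP := IsPullback.of_hasPullback f bV
  have hPqc : IsQuasiCompactSp (pullback f bV) := hqc (IsAlgSpace.yon_obj _)
    ((isQuasiCompactSp_iff_affine (IsAlgSpace.yon_obj _)).2 ⟨V, 𝟙 _, hV, repWith_id _ _, repWith_id _ _⟩) _ _ _ sP
  obtain ⟨W, w₁, hW, hw₁, hw₁s⟩ :=
    (isQuasiCompactSp_iff_affine (isAlgSpace_of_isPullback sP hX (IsAlgSpace.yon_obj _) hY)).1 hPqc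
  haveI : IsAffine W.left := hW
  obtain ⟨q, hq⟩ := (yon S).map_surjective (w₁ ≫ pullback.snd f bV)
  haveI : LocallyOfFiniteType q.left :=
    locP_baseChange hX hY (IsAlgSpace.yon_obj _) sP hlft w₁ (𝟙 _) q hw₁ (repWith_id _ _)
      (by rw [Category.comp_id, hq])
  have hsub : Points.ofPt bV ⁻¹' Set.range (Points.map f) ⊆ Set.range q.left := by
    rintro b ⟨x, hx⟩
    obtain ⟨z, -, hz⟩ := exists_point_of_isPullback sP x (Points.ofPt (𝟙 _) b)
      (by rw [hx, Points.map_ofPt, Category.id_comp])
    obtain ⟨z', rfl⟩ := surjective_ofPt hw₁s z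
    refine ⟨z', Groth.Agent.AlgSpUnivClosed.ofPt_id_injective (T := V) ?_⟩
    rw [← hz, Points.map_ofPt, ← hq, ← Category.comp_id ((yon S).map q)]
    exact (ofPt_comp q (𝟙 _) z').symm
  have hcl : v ∈ closure (Set.range q.left) := by
    refine closure_mono hsub ?_
    rw [← (isOpenMap_ofPt_of_etale hbV).preimage_closure_eq_closure_preimage (Points.continuous_ofPt bV)]
    exact hy
  obtain ⟨z, hz⟩ : ∃ z, q.left z ⤳ v := by
    let φ := (Spec.preimage (W.left.isoSpec.inv ≫ q.left ≫ V.left.isoSpec.hom)).hom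
    have hφ : ∀ x, (Spec.map (CommRingCat.ofHom φ)) x = V.left.isoSpec.hom (q.left (W.left.isoSpec.inv x)) :=
      fun x => by
        rw [show Spec.map (CommRingCat.ofHom φ) = W.left.isoSpec.inv ≫ q.left ≫ V.left.isoSpec.hom from
          Spec.map_preimage _]
        rfl
    have hv : (V.left.isoSpec.hom v : PrimeSpectrum Γ(V.left, ⊤)) ∈ closure (Set.range (PrimeSpectrum.comap φ)) := by
      refine map_mem_closure V.left.isoSpec.hom.continuous hcl ?_
      rintro _ ⟨x, rfl⟩
      refine ⟨W.left.isoSpec.hom x, (hφ _).trans ?_⟩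
      rw [← Scheme.Hom.comp_apply W.left.isoSpec.hom, Iso.hom_inv_id]
      rfl
    rw [PrimeSpectrum.closure_range_comap] at hv
    replace hv := (PrimeSpectrum.mem_zeroLocus _ _).1 hv
    haveI := (V.left.isoSpec.hom v : PrimeSpectrum Γ(V.left, ⊤)).2
    obtain ⟨p, hp, hpv⟩ := Ideal.exists_minimalPrimes_le
      (J := (V.left.isoSpec.hom v : PrimeSpectrum Γ(V.left, ⊤)).asIdeal) (show RingHom.ker φ ≤ _ from hv)
    obtain ⟨Q, hQ, -, hQp⟩ := Ideal.exists_comap_eq_of_mem_minimalPrimes (I := ⊥) φ p hp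
    let x : Spec (CommRingCat.of Γ(W.left, ⊤)) := (⟨Q, hQ⟩ : PrimeSpectrum _)
    refine ⟨W.left.isoSpec.inv x, (Scheme.Hom.homeomorph V.left.isoSpec.hom).isInducing.specializes_iff.1 ?_⟩
    show V.left.isoSpec.hom (q.left (W.left.isoSpec.inv x)) ⤳ V.left.isoSpec.hom v
    rw [← hφ]
    exact (PrimeSpectrum.le_iff_specializes _ _).1 (hQp.le.trans hpv)
  obtain ⟨A, _, _, _, j, hjv, k, hk⟩ : ∃ (A : Type u) (_ : CommRing A) (_ : IsDomain A)
      (_ : IsDiscreteValuationRing A) (j : Spec (CommRingCat.of A) ⟶ V.left) (_ : j (closedPoint A) = v)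
      (k : Spec (CommRingCat.of (FractionRing A)) ⟶ W.left),
      k ≫ q.left = Spec.map (CommRingCat.ofHom (algebraMap A (FractionRing A))) ≫ j := by
    rcases eq_or_ne v (q.left z) with rfl | hne
    · let κ : Type u := W.left.residueField z
      haveI : IsDiscreteValuationRing (PowerSeries κ) := inferInstance
      let c : κ →+* PowerSeries κ := PowerSeries.C
      let pc : Spec (CommRingCat.of (PowerSeries κ)) ⟶ Spec (W.left.residueField z) := Spec.map (CommRingCat.ofHom c)
      refine ⟨PowerSeries κ, inferInstance, inferInstance, inferInstance, pc ≫ W.left.fromSpecResidueField z ≫ q.left,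
        ?_, Spec.map (CommRingCat.ofHom (algebraMap (PowerSeries κ) (FractionRing (PowerSeries κ)))) ≫ pc ≫
          W.left.fromSpecResidueField z, by simp only [Category.assoc]⟩
      rw [Scheme.Hom.comp_apply, Scheme.Hom.comp_apply, Scheme.fromSpecResidueField_apply]
    · obtain ⟨A, β, hA, hβ, hw⟩ := Groth.Agent.S4450.result q.left z v hz hne
      haveI := hA
      let ι : W.left.residueField z →+* FractionRing A :=
        (IsLocalization.algEquiv (nonZeroDivisors A) (W.left.residueField z) (FractionRing A)).toRingEquiv.toRingHom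
      have hι : ι.comp A.subtype = algebraMap A (FractionRing A) := RingHom.ext fun x =>
        (IsLocalization.algEquiv (nonZeroDivisors A) (W.left.residueField z) (FractionRing A)).commutes x
      refine ⟨A, inferInstance, inferInstance, hA, β, hβ, Spec.map (CommRingCat.ofHom ι) ≫
        W.left.fromSpecResidueField z, ?_⟩
      rw [Category.assoc, ← hw, ← Spec.map_comp_assoc, ← CommRingCat.ofHom_comp, hι]
  let a := j ≫ V.hom
  let jo : Over.mk a ⟶ V := Over.homMk j rfl
  let ko : Over.mk (Spec.map (CommRingCat.ofHom (algebraMap A (FractionRing A))) ≫ a) ⟶ W := Over.homMk k (by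
    show k ≫ W.hom = _ ≫ j ≫ V.hom
    rw [← Over.w q, ← Category.assoc, hk, Category.assoc])
  refine ⟨A, inferInstance, inferInstance, inferInstance, a, (yon S).map jo ≫ bV,
    (yon S).map ko ≫ w₁ ≫ pullback.fst f bV, ?_, ?_⟩
  · rw [Category.assoc, Category.assoc, pullback.condition, ← Category.assoc w₁, ← hq]
    simp only [← Category.assoc, ← Functor.map_comp]
    congr 2
    exact Over.OverMorphism.ext hk
  · rw [ofPt_comp]
    exact congrArg _ hjv

end Groth.Agent.AlgSpDvr
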