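import Groth.Agent.AlgSpUnivClosed.SepExt

/-!
A finite separable dominating extension of a discrete valuation ring is a discrete valuation ring.
-/

set_option autoImplicit false
set_option backward.isDefEq.respectTransparency.types false

universe u

open IsLocalRing

namespace Groth.Agent.AlgSpDvr

theorem isDiscreteValuationRing_ext {A K A' K' : Type u} [CommRing A] [IsDomain A] [IsDiscreteValuationRing A]
    [Field K] [Algebra A K] [IsFractionRing A K] [CommRing A'] [IsDomain A'] [ValuationRing A'] [Field K']
    [Algebra A' K'] [IsFractionRing A' K'] [Algebra K K'] [Algebra A A'] [IsLocalHom (algebraMap A A')]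
    [Algebra A K'] [IsScalarTower A K K'] [IsScalarTower A A' K'] [FiniteDimensional K K'] [Algebra.IsSeparable K K'] :
    IsDiscreteValuationRing A' := by
  let C := integralClosure A K'
  haveI : IsDedekindDomain C := IsIntegralClosure.isDedekindDomain A K K' C
  haveI : IsFractionRing C K' := integralClosure.isFractionRing_of_finite_extension (A := A) K K'
  have hint : ∀ x : C, ∃ y : A', algebraMap A' K' y = (x : K') := fun x =>
    IsIntegrallyClosed.isIntegral_iff.1 (IsIntegral.tower_top (A := A') x.2)
  choose g₀ hg₀ using hint
  have hinj : Function.Injective (algebraMap A' K') := IsFractionRing.injective A' K'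
  let g : C →+* A' :=
    { toFun := g₀
      map_one' := hinj (by rw [hg₀, map_one, OneMemClass.coe_one])
      map_zero' := hinj (by rw [hg₀, map_zero, ZeroMemClass.coe_zero])
      map_mul' := fun x y => hinj (by rw [map_mul, hg₀, hg₀, hg₀, MulMemClass.coe_mul])
      map_add' := fun x y => hinj (by rw [map_add, hg₀, hg₀, hg₀, AddMemClass.coe_add]) }
  let p : Ideal C := (maximalIdeal A').comap g
  haveI : p.IsPrime := Ideal.IsPrime.comap g
  have hp : p ≠ ⊥ := by
    obtain ⟨ϖ, hϖ⟩ := IsDiscreteValuationRing.exists_irreducible A
    intro h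
    have hmem : algebraMap A C ϖ ∈ p := by
      rw [Ideal.mem_comap, show g (algebraMap A C ϖ) = algebraMap A A' ϖ from hinj (by
        rw [← IsScalarTower.algebraMap_apply A A' K']
        exact hg₀ _), IsLocalRing.mem_maximalIdeal, mem_nonunits_iff]
      exact fun hu => hϖ.not_isUnit (isUnit_of_map_unit (algebraMap A A') _ hu)
    rw [h, Ideal.mem_bot] at hmem
    have : algebraMap A K' ϖ = 0 := by
      rw [IsScalarTower.algebraMap_apply A C K', hmem, map_zero]
    rw [IsScalarTower.algebraMap_apply A K K'] at this
    exact hϖ.ne_zero (IsFractionRing.injective A K (by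
      rw [map_zero]; exact (algebraMap K K').injective (this.trans (map_zero _).symm)))
  have hunit : ∀ x : p.primeCompl, IsUnit (g x) := fun x => by
    by_contra h
    exact x.2 h
  haveI : IsDiscreteValuationRing (Localization.AtPrime p) :=
    IsLocalization.AtPrime.isDiscreteValuationRing_of_dedekind_domain C hp _
  let j : Localization.AtPrime p →+* A' := IsLocalization.lift hunit
  have hj : ∀ x : C, j (algebraMap C _ x) = g x := fun x => IsLocalization.lift_eq hunit x
  let f : Localization.AtPrime p →+* K' := (algebraMap A' K').comp j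
  have hfi : Function.Injective f := by
    intro x y hxy
    obtain ⟨⟨a, s⟩, ha⟩ := IsLocalization.surj p.primeCompl x
    obtain ⟨⟨b, t⟩, hb⟩ := IsLocalization.surj p.primeCompl y
    have hfC : ∀ c : C, f (algebraMap C _ c) = (c : K') := fun c => by
      show algebraMap A' K' (j _) = _
      rw [hj]
      exact hg₀ c
    have e₁ := congrArg f ha
    have e₂ := congrArg f hb
    rw [map_mul, hfC, hfC] at e₁ e₂
    have hst : algebraMap C (Localization.AtPrime p) (a * t) = algebraMap C (Localization.AtPrime p) (b * s) := by
      refine congrArg _ (Subtype.ext ?_)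
      simp only [MulMemClass.coe_mul]
      rw [← e₁, ← e₂, hxy]
      ring
    rw [map_mul, map_mul, ← ha, ← hb] at hst
    have hs := IsLocalization.map_units (Localization.AtPrime p) s
    have ht := IsLocalization.map_units (Localization.AtPrime p) t
    exact (hs.mul ht).mul_right_cancel (by linear_combination hst)
  have hloc : ∀ z, IsUnit (j z) → IsUnit z := fun z hz => by
    obtain ⟨⟨a, s⟩, ha⟩ := IsLocalization.surj p.primeCompl z
    have e := congrArg j ha
    rw [map_mul, hj, hj] at e
    have hau : IsUnit (g a) := e ▸ hz.mul (hunit s)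
    have hap : a ∈ p.primeCompl := fun h => h hau
    exact isUnit_of_mul_isUnit_left (ha ▸ IsLocalization.map_units (Localization.AtPrime p) (⟨a, hap⟩ : p.primeCompl))
  have hbij : Function.Bijective j := by
    refine ⟨fun x y h => hfi (congrArg (algebraMap A' K') h), fun y => ?_⟩
    obtain ⟨⟨a, b, hb⟩, hy⟩ := IsLocalization.surj (nonZeroDivisors C) (algebraMap A' K' y)
    have hy' : y * g b = g a := hinj (by
      rw [map_mul]
      show algebraMap A' K' y * algebraMap A' K' (g₀ b) = algebraMap A' K' (g₀ a)
      rw [hg₀, hg₀]
      exact hy)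
    rcases ValuationRing.dvd_total (algebraMap C (Localization.AtPrime p) b) (algebraMap C _ a) with ⟨z, hz⟩ | ⟨z, hz⟩
    · refine ⟨z, ?_⟩
      have e := congrArg j hz
      rw [map_mul, hj, hj] at e
      have hb0 : g b ≠ 0 := fun h => nonZeroDivisors.ne_zero hb (Subtype.ext (by
        rw [← hg₀ b, show g₀ b = 0 from h, map_zero, ZeroMemClass.coe_zero]))
      exact mul_left_cancel₀ hb0 (by rw [← e, ← hy', mul_comm])
    · have e := congrArg j hz
      rw [map_mul, hj, hj, ← hy'] at e
      have hb0 : g b ≠ 0 := fun h => nonZeroDivisors.ne_zero hb (Subtype.ext (by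
        rw [← hg₀ b, show g₀ b = 0 from h, map_zero, ZeroMemClass.coe_zero]))
      have hy1 : y * j z = 1 := mul_left_cancel₀ hb0 (by rw [mul_one]; linear_combination -e)
      obtain ⟨v, hv⟩ := (hloc z (IsUnit.of_mul_eq_one y (by rw [mul_comm, hy1]))).exists_right_inv
      refine ⟨v, ?_⟩
      have := congrArg j hv
      rw [map_mul, map_one] at this
      calc j v = y * j z * j v := by rw [hy1, one_mul]
        _ = y := by rw [mul_assoc, this, mul_one]
  exact IsDiscreteValuationRing.RingEquivClass.isDiscreteValuationRing (RingEquiv.ofBijective j hbij)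

end Groth.Agent.AlgSpDvr
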