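import Groth.Agent.AlgSpUnivClosed.Valuative
import Groth.Agent.AlgSpUnivClosed.Main
import Groth.Agent.AlgSpUnivClosed.SepSquare
import Groth.Agent.AlgSpRefinedVal.Main
import Groth.Agent.AlgSpPts.NoethSp
import Groth.Agent.AlgSpPts.Basic
import Groth.Agent.S4450
import Groth.Agent.S9900

/-!
Valuative criteria over discrete valuation rings for locally Noetherian targets.
-/

set_option autoImplicit false
set_option backward.isDefEq.respectTransparency.types false

universe u

open CategoryTheory CategoryTheory.Limits AlgebraicGeometry Opposite AlgSp Topology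

namespace Groth.Agent.AlgSpDvr

open Groth.Agent.AlgSpLib Groth.Agent.AlgSpUnivClosed

variable {S : Scheme.{u}} {X Y : Sp S}

open IsLocalRing in
/-- The existence part of the valuative criterion on discrete valuation rings gives closed projections over Noetherian schemes. -/
theorem sndClosed_of_dvr (hX : IsAlgSpace X) (hY : IsAlgSpace Y) {f : X ⟶ Y} (hqc : IsQuasiCompactMor f)
    (hlft : LocP @LocallyOfFiniteType f)
    (he : ∀ sq : ValSq f, IsDiscreteValuationRing sq.A → sq.HasLiftExt) {T : Over S} [IsAffine T.left]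
    [IsLocallyNoetherian T.left] (g : (yon S).obj T ⟶ Y) :
    SndClosed f g := by
  intro C hC
  have hsP := IsPullback.of_hasPullback f g
  have hqcP : IsQuasiCompactSp (pullback f g) := hqc (IsAlgSpace.yon_obj _)
    ((isQuasiCompactSp_iff_affine (IsAlgSpace.yon_obj _)).2 ⟨T, 𝟙 _, ‹_›, repWith_id _ _, repWith_id _ _⟩) _ _ _ hsP
  obtain ⟨W, w₁, hW, hw₁, hw₁s⟩ :=
    (isQuasiCompactSp_iff_affine (isAlgSpace_of_isPullback hsP hX (IsAlgSpace.yon_obj _) hY)).1 hqcP
  obtain ⟨q, hq⟩ := (yon S).map_surjective (w₁ ≫ pullback.snd f g)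
  haveI : IsAffine W.left := hW
  have key : ∀ x, Points.map (pullback.snd f g) (Points.ofPt w₁ x) = Points.ofPt (𝟙 _) (q.left x) := fun x => by
    rw [Points.map_ofPt, ← hq, ← ofPt_comp, Category.comp_id]
  have himg : img f g C = q.left '' (Points.ofPt w₁ ⁻¹' C) := by
    ext t
    constructor
    · rintro ⟨c, hc, hc'⟩
      obtain ⟨x, rfl⟩ := surjective_ofPt hw₁s c
      exact ⟨x, hc, ofPt_id_injective ((key x).symm.trans hc')⟩
    · rintro ⟨x, hx, rfl⟩
      exact ⟨_, hx, key x⟩
  rw [himg]
  refine isClosed_image_of_stable _ (hC.preimage (Points.continuous_ofPt w₁)) ?_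
  rintro t' s hspec ⟨x, hx, rfl⟩
  rcases eq_or_ne s (q.left x) with rfl | hne
  · exact ⟨x, hx, rfl⟩
  haveI : LocallyOfFiniteType q.left :=
    locP_baseChange hX hY (IsAlgSpace.yon_obj _) hsP hlft w₁ (𝟙 _) q hw₁ (repWith_id _ _)
      (by rw [Category.comp_id, hq])
  obtain ⟨A, β, hA, hβ, hw'⟩ := Groth.Agent.S4450.result q.left x s hspec hne
  have hw : W.left.fromSpecResidueField x ≫ q.left =
      Spec.map (CommRingCat.ofHom (algebraMap A (W.left.residueField x))) ≫ β := hw'.symm
  let bo : Over.mk (β ≫ T.hom) ⟶ T := Over.homMk β rfl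
  let xo : Over.mk (Spec.map (CommRingCat.ofHom (algebraMap A (W.left.residueField x))) ≫ β ≫ T.hom) ⟶ W :=
    Over.homMk (W.left.fromSpecResidueField x) (by
      show W.left.fromSpecResidueField x ≫ W.hom = Spec.map _ ≫ β ≫ T.hom
      rw [← Over.w q, reassoc_of% hw])
  let jo : Over.mk (Spec.map (CommRingCat.ofHom (algebraMap A (W.left.residueField x))) ≫ β ≫ T.hom) ⟶
      Over.mk (β ≫ T.hom) := Over.homMk (Spec.map (CommRingCat.ofHom (algebraMap A (W.left.residueField x)))) rfl
  have hxo : xo ≫ q = jo ≫ bo := Over.OverMorphism.ext hw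
  have hcomm : ((yon S).map xo ≫ w₁ ≫ pullback.fst f g) ≫ f = (yon S).map jo ≫ (yon S).map bo ≫ g := by
    rw [← Category.assoc ((yon S).map jo), ← Functor.map_comp, ← hxo, Functor.map_comp, hq]
    simp only [Category.assoc, pullback.condition]
  let sq : ValSq f :=
    { A := A
      K := W.left.residueField x
      str := β ≫ T.hom
      top := (yon S).map xo ≫ w₁ ≫ pullback.fst f g
      bot := (yon S).map bo ≫ g
      comm := hcomm }
  obtain ⟨e, l, hl₁, hl₂⟩ := he sq hA
  let φo : e.ptA' ⟶ sq.ptA := Over.homMk (Spec.map (CommRingCat.ofHom e.φ)) rfl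
  let jo' : e.ptK' ⟶ e.ptA' := Over.homMk (Spec.map (CommRingCat.ofHom (algebraMap e.A' e.K'))) rfl
  let ψo : e.ptK' ⟶ sq.ptK := Over.homMk (Spec.map (CommRingCat.ofHom e.ψ)) (by
    change Spec.map _ ≫ Spec.map _ ≫ _ = Spec.map _ ≫ Spec.map _ ≫ _
    rw [← Spec.map_comp_assoc, ← Spec.map_comp_assoc, ← CommRingCat.ofHom_comp,
      ← CommRingCat.ofHom_comp, e.comm])
  have hjφ : jo' ≫ φo = ψo ≫ sq.j := by
    refine Over.OverMorphism.ext ?_
    show Spec.map _ ≫ Spec.map _ = Spec.map _ ≫ Spec.map _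
    rw [← Spec.map_comp, ← Spec.map_comp, ← CommRingCat.ofHom_comp, ← CommRingCat.ofHom_comp, e.comm]
  let L : (yon S).obj e.ptA' ⟶ pullback f g := pullback.lift l ((yon S).map (φo ≫ bo))
    (by rw [hl₂, Functor.map_comp, Category.assoc])
  have hL : (yon S).map jo' ≫ L = (yon S).map (ψo ≫ xo) ≫ w₁ := by
    apply pullback.hom_ext
    · rw [Category.assoc, pullback.lift_fst, hl₁, Functor.map_comp, Category.assoc, Category.assoc]
    · rw [Category.assoc, pullback.lift_snd, Category.assoc, ← hq, ← Functor.map_comp, ← Functor.map_comp]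
      congr 1
      rw [Category.assoc, hxo, ← Category.assoc jo', hjφ, Category.assoc]
  let η : (e.ptA').left := jo'.left (closedPoint e.K')
  let κ : (e.ptA').left := closedPoint e.A'
  have hη : Points.ofPt L η ∈ C := by
    show Points.ofPt L (jo'.left _) ∈ C
    rw [← ofPt_comp, hL, ofPt_comp, Over.comp_left, Scheme.Hom.comp_apply]
    show Points.ofPt w₁ (W.left.fromSpecResidueField x _) ∈ C
    rw [Scheme.fromSpecResidueField_apply]
    exact hx
  have hκ : Points.ofPt L κ ∈ C :=
    ((specializes_closedPoint (R := e.A') η).map (Points.continuous_ofPt L)).mem_closed hC hη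
  obtain ⟨y, hy⟩ := surjective_ofPt hw₁s (Points.ofPt L κ)
  refine ⟨y, by rw [Set.mem_preimage, hy]; exact hκ, ofPt_id_injective ?_⟩
  rw [← key, hy, Points.map_ofPt, pullback.lift_snd, ← Category.comp_id ((yon S).map _), ofPt_comp]
  refine congrArg _ ?_
  show β (Spec.map (CommRingCat.ofHom e.φ) (closedPoint e.A')) = s
  have := e.isLocalHom
  rw [show Spec.map (CommRingCat.ofHom e.φ) (closedPoint e.A') = closedPoint A from comap_closedPoint (S := e.A') e.φ]
  exact hβ

/-- Lifts over discrete valuation rings give universal closedness. -/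
theorem isUnivClosedMor_of_dvr (hX : IsAlgSpace X) (hY : IsAlgSpace Y) {f : X ⟶ Y} (hqc : IsQuasiCompactMor f)
    (hlft : LocP @LocallyOfFiniteType f) (hN : IsLocNoethSp Y)
    (he : ∀ sq : ValSq f, IsDiscreteValuationRing sq.A → sq.HasLiftExt) : IsUnivClosedMor f := by
  obtain ⟨V, p, hp, hps, hV⟩ := hN
  haveI : IsLocallyNoetherian V.left := hV
  refine isUnivClosedMor_of_affineSpace hX hY hqc hp hps fun n C hC => ?_
  haveI : LocallyOfFinitePresentation (affProj n V).left :=
    inferInstanceAs (LocallyOfFinitePresentation (𝔸(ULift.{u} (Fin n); V.left) ↘ V.left))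
  haveI : IsLocallyNoetherian (affObj n V).left :=
    LocallyOfFiniteType.isLocallyNoetherian (affProj n V).left
  rw [← isOpen_compl_iff, isOpen_iff_forall_mem_open]
  intro s hs
  obtain ⟨U, hU, hsU, -⟩ := exists_isAffineOpen_mem_and_subset (X := (affObj n V).left) (x := s) (U := ⊤) trivial
  let T' : Over S := Over.mk (U.ι ≫ (affObj n V).hom)
  let k : T' ⟶ affObj n V := Over.homMk U.ι rfl
  haveI : IsAffine T'.left := hU
  haveI : IsLocallyNoetherian T'.left := LocallyOfFiniteType.isLocallyNoetherian U.ι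
  have hcl := sndClosed_of_dvr hX hY hqc hlft he ((yon S).map k ≫ (yon S).map (affProj n V) ≫ p) _
    (hC.preimage (Points.continuous_map (pmap f ((yon S).map (affProj n V) ≫ p) _ k rfl)))
  rw [mem_img_pmap rfl C] at hcl
  refine ⟨U.ι '' (k.left ⁻¹' img f ((yon S).map (affProj n V) ≫ p) C)ᶜ, ?_,
    U.ι.isOpenEmbedding.isOpenMap _ hcl.isOpen_compl, ⟨⟨s, hsU⟩, fun h => hs h, rfl⟩⟩
  rintro _ ⟨a, ha, rfl⟩
  exact ha

/-- Local Noetherianity passes along morphisms locally of finite type. -/
theorem isLocNoethSp_of_lft (hX : IsAlgSpace X) (hY : IsAlgSpace Y) {f : X ⟶ Y}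
    (hlft : LocP @LocallyOfFiniteType f) (hN : IsLocNoethSp Y) : IsLocNoethSp X := by
  obtain ⟨V, b, hb, hbs, hV⟩ := hN
  obtain ⟨U, a, h, ha, has, w⟩ := exists_chart_lift hX hY f b hb hbs
  haveI : IsLocallyNoetherian V.left := hV
  haveI : LocallyOfFiniteType h.left := hlft a b h ha hb w
  exact ⟨U, a, ha, has, LocallyOfFiniteType.isLocallyNoetherian h.left⟩

/-- Uniqueness over discrete valuation rings gives separatedness. -/
theorem isSeparatedMor_of_dvr (hX : IsAlgSpace X) (hY : IsAlgSpace Y) {f : X ⟶ Y} (hqs : IsQuasiSeparatedMor f)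
    (hlft : LocP @LocallyOfFiniteType f) (hN : IsLocNoethSp Y)
    (hu : ∀ sq : ValSq f, IsDiscreteValuationRing sq.A → sq.HasUniq) : IsSeparatedMor f := by
  have hR := isAlgSpace_pullback f f hX hX hY
  have hRN : IsLocNoethSp (pullback f f) :=
    isLocNoethSp_of_lft hR hY (f := pullback.fst f f ≫ f)
      (locP_comp hR hX hY (locP_baseChange hX hY hX (IsPullback.of_hasPullback f f).flip hlft) hlft) hN
  have hΔ : LocP @LocallyOfFiniteType (pullback.diagonal f) :=
    locP_of_repWith (Groth.Agent.AlgSpPts.repWith_lft_lqf_diagonal hX hY f) fun _ _ _ k m hk hm => by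
      haveI := hk
      haveI := hm.2
      infer_instance
  refine isSeparatedMor_of_diag_univClosed hX hY f (isUnivClosedMor_of_dvr hX hR
    (Groth.Agent.AlgStLib.isQuasiCompactMor_of_repWith hX hR hqs) hΔ hRN fun sq hA => ?_)
  have c₁ : (yon S).map sq.j ≫ sq.bot ≫ pullback.fst f f = sq.top := by
    have := congrArg (· ≫ pullback.fst f f) sq.comm
    simp only [Category.assoc, pullback.diagonal_fst, Category.comp_id] at this
    exact this.symm
  have c₂ : (yon S).map sq.j ≫ sq.bot ≫ pullback.snd f f = sq.top := by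
    have := congrArg (· ≫ pullback.snd f f) sq.comm
    simp only [Category.assoc, pullback.diagonal_snd, Category.comp_id] at this
    exact this.symm
  let sq₁ : ValSq f :=
    { A := sq.A, K := sq.K, str := sq.str, top := sq.top, bot := (sq.bot ≫ pullback.fst f f) ≫ f,
      comm := ((congrArg (· ≫ f) c₁.symm).trans (Category.assoc _ _ _)) }
  have e : sq.bot ≫ pullback.fst f f = sq.bot ≫ pullback.snd f f := hu sq₁ hA _ _ c₁ rfl c₂ (by
    show (sq.bot ≫ pullback.snd f f) ≫ f = (sq.bot ≫ pullback.fst f f) ≫ f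
    simp only [Category.assoc, pullback.condition])
  refine hasLiftExt_of_hasLift sq ⟨sq.bot ≫ pullback.fst f f, c₁, ?_⟩
  apply pullback.hom_ext
  · simp only [Category.assoc, pullback.diagonal_fst, Category.comp_id]
  · simp only [Category.assoc, pullback.diagonal_snd, Category.comp_id]
    exact e

end Groth.Agent.AlgSpDvr
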