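import Groth.Agent.AlgSpDvr.Main
import Groth.Agent.AlgSpUnivClosed.SepLift

/-!
Lifts over discrete valuation rings on a dense part give lifts over all valuation rings on that part.
-/

set_option autoImplicit false
set_option backward.isDefEq.respectTransparency.types false

universe u

open CategoryTheory CategoryTheory.Limits AlgebraicGeometry Opposite AlgSp Topology IsLocalRing TensorProduct

namespace Groth.Agent.AlgSpDvr

open Groth.Agent.AlgSpLib Groth.Agent.AlgSpRefinedVal Groth.Agent.AlgSpUnivClosed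

variable {S : Scheme.{u}}

/-- Elements of a tensor product come from finitely generated subalgebras. -/
theorem exists_finset_mem_range {R B A : Type u} [CommRing R] [CommRing B] [Algebra R B] [CommRing A] [Algebra R A]
    (x : B ⊗[R] A) : ∃ s : Finset A, ∀ A₀ : Subalgebra R A, (↑s : Set A) ⊆ A₀ →
      x ∈ (Algebra.TensorProduct.map (AlgHom.id R B) A₀.val).range := by
  classical
  induction x using TensorProduct.induction_on with
  | zero => exact ⟨∅, fun A₀ _ => zero_mem _⟩
  | tmul b a => exact ⟨{a}, fun A₀ hA => ⟨b ⊗ₜ ⟨a, hA (Finset.mem_singleton_self a)⟩, rfl⟩⟩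
  | add x y hx hy =>
    obtain ⟨s, hs⟩ := hx
    obtain ⟨t, ht⟩ := hy
    exact ⟨s ∪ t, fun A₀ hA => add_mem (hs A₀ fun a ha => hA (Finset.mem_union_left _ ha))
      (ht A₀ fun a ha => hA (Finset.mem_union_right _ ha))⟩

/-- Elements of an extended ideal come from finitely generated subalgebras. -/
theorem exists_finset_mem_map {R B A : Type u} [CommRing R] [CommRing B] [Algebra R B] [CommRing A] [Algebra R A]
    (m : Ideal A) {x : B ⊗[R] A} (hx : x ∈ m.map (Algebra.TensorProduct.includeRight : A →ₐ[R] B ⊗[R] A)) :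
    ∃ s : Finset A, ∀ A₀ : Subalgebra R A, (↑s : Set A) ⊆ A₀ →
      ∃ y ∈ (m.comap A₀.val).map (Algebra.TensorProduct.includeRight : A₀ →ₐ[R] B ⊗[R] A₀),
        Algebra.TensorProduct.map (AlgHom.id R B) A₀.val y = x := by
  classical
  induction hx using Submodule.span_induction with
  | mem z hz =>
    obtain ⟨a, ha, rfl⟩ := hz
    exact ⟨{a}, fun A₀ hA => ⟨Algebra.TensorProduct.includeRight (⟨a, hA (Finset.mem_singleton_self a)⟩ : A₀),
      Ideal.mem_map_of_mem _ (show (⟨a, _⟩ : A₀) ∈ m.comap A₀.val from ha), rfl⟩⟩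
  | zero => exact ⟨∅, fun A₀ _ => ⟨0, zero_mem _, map_zero _⟩⟩
  | add x y _ _ hx hy =>
    obtain ⟨s, hs⟩ := hx
    obtain ⟨t, ht⟩ := hy
    refine ⟨s ∪ t, fun A₀ hA => ?_⟩
    obtain ⟨x', hx', rfl⟩ := hs A₀ fun a ha => hA (Finset.mem_union_left _ ha)
    obtain ⟨y', hy', rfl⟩ := ht A₀ fun a ha => hA (Finset.mem_union_right _ ha)
    exact ⟨x' + y', add_mem hx' hy', map_add _ _ _⟩
  | smul r x _ hx =>
    obtain ⟨s, hs⟩ := hx
    obtain ⟨t, ht⟩ := exists_finset_mem_range r
    refine ⟨s ∪ t, fun A₀ hA => ?_⟩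
    obtain ⟨x', hx', rfl⟩ := hs A₀ fun a ha => hA (Finset.mem_union_left _ ha)
    obtain ⟨r', rfl⟩ := ht A₀ fun a ha => hA (Finset.mem_union_right _ ha)
    exact ⟨r' * x', Ideal.mul_mem_left _ _ hx', map_mul _ _ _⟩

set_option maxHeartbeats 1600000 in
theorem hasLiftExt_of_dvr_through {U X Y : Sp S} (hU : IsAlgSpace U) (hX : IsAlgSpace X) (hY : IsAlgSpace Y)
    {f : X ⟶ Y} {h : U ⟶ X} (hN : IsLocNoethSp Y) (hfs : IsSeparatedMor f) (hfq : IsQuasiCompactMor f)
    (hlft : LocP @LocallyOfFiniteType (h ≫ f))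
    (hval : ∀ sq : ValSq (h ≫ f), IsDiscreteValuationRing sq.A →
      ∃ l : (yon S).obj sq.ptA ⟶ X, (yon S).map sq.j ≫ l = sq.top ≫ h ∧ l ≫ f = sq.bot)
    (sq : ValSq f) (ht : ∃ t : (yon S).obj sq.ptK ⟶ U, t ≫ h = sq.top) : sq.HasLiftExt := by
  obtain ⟨t, ht⟩ := ht
  -- an affine chart of the target at the closed point
  obtain ⟨V, bV, v, hV, hbV, hv₀⟩ := exists_affine_chart_point hY (Points.ofPt sq.bot (closedPoint sq.A))
  haveI : IsAffine V.left := hV
  haveI : IsLocallyNoetherian V.left := AlgSpPts.isLocallyNoetherian_of_chart hN hbV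
  have hflat : LocP @Flat bV := locP_of_repWith hbV fun _ _ _ k m hk hm => by
    haveI := hk
    haveI : Etale m := hm
    infer_instance
  obtain ⟨A₁, _, _, _, φ₁, hφ₁, hφ₁loc, l₁, hl₁⟩ :=
    Groth.Agent.AlgSpUnivClosed.exists_valuation_lift_of_flat (IsAlgSpace.yon_obj _) hY hflat sq.A sq.str sq.bot
      ⟨Points.ofPt (𝟙 _) v, by rw [Points.map_ofPt, Category.id_comp, hv₀]⟩
  obtain ⟨lV, rfl⟩ := (yon S).map_surjective l₁
  let R : Type u := Γ(V.left, ⊤)
  let r : Spec (CommRingCat.of R) ⟶ S := V.left.isoSpec.inv ≫ V.hom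
  haveI : IsNoetherianRing R := IsLocallyNoetherian.component_noetherian ⟨⊤, isAffineOpen_top V.left⟩
  let eV : Over.mk r ⟶ V := Over.homMk V.left.isoSpec.inv rfl
  haveI : IsIso eV.left := inferInstanceAs (IsIso V.left.isoSpec.inv)
  let c := (yon S).map eV ≫ bV
  have hc : RepWith @Etale c := repWith_yon_comp eV (inferInstance : Etale eV.left) hbV
  let ρ₁ : R →+* A₁ := (Spec.preimage (lV.left ≫ V.left.isoSpec.hom :
    Spec (CommRingCat.of A₁) ⟶ Spec (CommRingCat.of R))).hom
  have hρ₁ : Spec.map (CommRingCat.ofHom ρ₁) = lV.left ≫ V.left.isoSpec.hom := Spec.map_preimage _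
  have hlV : Spec.map (CommRingCat.ofHom ρ₁) ≫ V.left.isoSpec.inv = lV.left := by
    rw [hρ₁, Category.assoc, Iso.hom_inv_id, Category.comp_id]
  have hρ₁r : Spec.map (CommRingCat.ofHom ρ₁) ≫ r = Spec.map (CommRingCat.ofHom φ₁) ≫ sq.str := by
    show _ ≫ _ ≫ V.hom = _
    rw [← Category.assoc, hlV]
    exact Over.w lV
  obtain ⟨K₁, _, _, _⟩ : ∃ (L : Type u) (_ : Field L) (_ : Algebra A₁ L), IsFractionRing A₁ L :=
    ⟨FractionRing A₁, inferInstance, inferInstance, inferInstance⟩
  have hi : Function.Injective ((algebraMap A₁ K₁).comp φ₁) := (IsFractionRing.injective A₁ K₁).comp hφ₁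
  let ψ₁ : sq.K →+* K₁ := IsFractionRing.lift hi
  have hψ₁ : ψ₁.comp (algebraMap sq.A sq.K) = (algebraMap A₁ K₁).comp φ₁ := by
    ext x
    rw [RingHom.comp_apply]
    exact IsFractionRing.lift_algebraMap hi x
  let ψ₁o : Over.mk (Spec.map (CommRingCat.ofHom ((algebraMap A₁ K₁).comp ρ₁)) ≫ r) ⟶ sq.ptK :=
    smap ψ₁ (by rw [spec_w, hψ₁, ← spec_w, ← hρ₁r, spec_w])
  let jr : Over.mk (Spec.map (CommRingCat.ofHom ((algebraMap A₁ K₁).comp ρ₁)) ≫ r) ⟶ Over.mk r :=
    smap ((algebraMap A₁ K₁).comp ρ₁) rfl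
  have hP := isAlgSpace_pullback f c hX (IsAlgSpace.yon_obj _) hY
  let p : (yon S).obj (Over.mk (Spec.map (CommRingCat.ofHom ((algebraMap A₁ K₁).comp ρ₁)) ≫ r)) ⟶ pullback f c :=
    pullback.lift ((yon S).map ψ₁o ≫ sq.top) ((yon S).map jr) (by
      rw [Category.assoc, sq.comm, ← Category.assoc ((yon S).map ψ₁o), ← Functor.map_comp]
      show _ = (yon S).map jr ≫ (yon S).map eV ≫ bV
      rw [← Category.assoc ((yon S).map jr), ← Functor.map_comp]
      let φ₁o : Over.mk (Spec.map (CommRingCat.ofHom φ₁) ≫ sq.str) ⟶ Over.mk sq.str :=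
        Over.homMk (Spec.map (CommRingCat.ofHom φ₁)) rfl
      let j₁ : Over.mk (Spec.map (CommRingCat.ofHom ((algebraMap A₁ K₁).comp ρ₁)) ≫ r) ⟶
          Over.mk (Spec.map (CommRingCat.ofHom φ₁) ≫ sq.str) :=
        smap (algebraMap A₁ K₁) (by rw [← hρ₁r, spec_w])
      have e₁ : ψ₁o ≫ sq.j = j₁ ≫ φ₁o := Over.OverMorphism.ext (by
        show Spec.map _ ≫ Spec.map _ = Spec.map _ ≫ Spec.map _
        rw [← Spec.map_comp, ← Spec.map_comp, ← CommRingCat.ofHom_comp, hψ₁]
        rfl)
      have e₂ : jr ≫ eV = j₁ ≫ lV := Over.OverMorphism.ext (by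
        show Spec.map _ ≫ _ = Spec.map _ ≫ lV.left
        rw [← hlV, CommRingCat.ofHom_comp]
        erw [Spec.map_comp]
        rw [Category.assoc]
        rfl)
      refine (congrArg (fun t => (yon S).map t ≫ sq.bot) e₁).trans (Eq.trans ?_
        (congrArg (fun t => (yon S).map t ≫ bV) e₂).symm)
      rw [Functor.map_comp, Functor.map_comp, Category.assoc, Category.assoc]
      exact congrArg ((yon S).map j₁ ≫ ·) hl₁.symm)
  letI : Algebra R A₁ := ρ₁.toAlgebra
  letI : Algebra R K₁ := ((algebraMap A₁ K₁).comp ρ₁).toAlgebra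
  haveI : IsScalarTower R A₁ K₁ := IsScalarTower.of_algebraMap_eq' rfl
  let κ₁ : A₁ →ₐ[R] K₁ := IsScalarTower.toAlgHom R A₁ K₁
  let pK : (yon S).obj (algObj r K₁) ⟶ pullback f c := p
  have hpK : pK ≫ pullback.snd f c = (yon S).map (toBase r K₁) := pullback.lift_snd _ _ _
  have hπ : IsSeparatedMor (pullback.snd f c) := repWith_diagonal_baseChange (IsPullback.of_hasPullback f c) hfs
  -- an affine chart of the base change
  have hPqc : IsQuasiCompactSp (pullback f c) := hfq (IsAlgSpace.yon_obj _)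
    ((isQuasiCompactSp_iff_affine (IsAlgSpace.yon_obj _)).2
      ⟨_, 𝟙 _, inferInstanceAs (IsAffine (Spec (CommRingCat.of R))), repWith_id _ _, repWith_id _ _⟩) _ _ _
    (IsPullback.of_hasPullback f c)
  obtain ⟨W, w₁, hW, hw₁, hw₁s⟩ := (isQuasiCompactSp_iff_affine hP).1 hPqc
  haveI : IsAffine W.left := hW
  obtain ⟨qW, hqW⟩ := (yon S).map_surjective (w₁ ≫ pullback.snd f c)
  let φB : CommRingCat.of R ⟶ Γ(W.left, ⊤) := Spec.preimage (W.left.isoSpec.inv ≫ qW.left)
  let B : Type u := Γ(W.left, ⊤)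
  letI : Algebra R B := φB.hom.toAlgebra
  have hφB : Spec.map (CommRingCat.ofHom (algebraMap R B)) = W.left.isoSpec.inv ≫ qW.left := Spec.map_preimage _
  let eW : algObj r B ⟶ W := Over.homMk W.left.isoSpec.inv (by
    show W.left.isoSpec.inv ≫ W.hom = Spec.map _ ≫ r
    rw [hφB, Category.assoc]
    congr 1
    exact (Over.w qW).symm)
  haveI : IsIso eW.left := inferInstanceAs (IsIso W.left.isoSpec.inv)
  let b := (yon S).map eW ≫ w₁
  have hb : RepWith @Etale b := repWith_yon_comp eW (inferInstance : Etale eW.left) hw₁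
  have hbs : RepWith @Surjective b := repWith_yon_comp eW (inferInstance : Surjective eW.left) hw₁s
  have hbπ : b ≫ pullback.snd f c = (yon S).map (toBase r B) := by
    rw [Category.assoc, ← hqW, ← Functor.map_comp]
    congr 1
    exact Over.OverMorphism.ext hφB.symm
  -- its fibre over the generic point
  obtain ⟨W', fW, gW, sW⟩ := exists_isPullback (hP.representable_from_yon b) pK
  obtain ⟨C, _, _, πC, eC, -, heCf, heCg⟩ := exists_closed_model r (pullback.snd f c) hπ pK hpK hbπ sW
  let χB : B →ₐ[R] C := πC.comp Algebra.TensorProduct.includeLeft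
  let χK : K₁ →ₐ[R] C := πC.comp Algebra.TensorProduct.includeRight
  have sC : IsPullback ((yon S).map (algMap r B χB)) ((yon S).map (algMap r K₁ χK)) b pK := by
    refine sW.of_iso ((yon S).mapIso eC.symm) (Iso.refl _) (Iso.refl _) (Iso.refl _) ?_ ?_ (by simp) (by simp)
    · simp only [Iso.refl_hom, Category.comp_id, Functor.mapIso_hom, Iso.symm_hom, ← Functor.map_comp]
      rw [← heCf, Iso.inv_hom_id_assoc]
    · simp only [Iso.refl_hom, Category.comp_id, Functor.mapIso_hom, Iso.symm_hom, ← Functor.map_comp]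
      rw [← heCg, Iso.inv_hom_id_assoc]
  let βT : B ⊗[R] A₁ →ₐ[R] C := Algebra.TensorProduct.lift χB (χK.comp κ₁) fun _ _ => .all _ _
  obtain ⟨ω, hωm, hωker⟩ : ∃ ω : PrimeSpectrum (B ⊗[R] A₁),
      ω.asIdeal.comap (Algebra.TensorProduct.includeRight : A₁ →ₐ[R] B ⊗[R] A₁) = maximalIdeal A₁ ∧
        RingHom.ker βT ≤ ω.asIdeal := by
    by_contra hno
    have htop : RingHom.ker βT ⊔ (maximalIdeal A₁).map (Algebra.TensorProduct.includeRight : A₁ →ₐ[R] B ⊗[R] A₁) = ⊤ := by
      by_contra hne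
      obtain ⟨M, hM, hle⟩ := Ideal.exists_le_maximal _ hne
      refine hno ⟨⟨M, hM.isPrime⟩, ?_, le_sup_left.trans hle⟩
      exact ((maximalIdeal.isMaximal A₁).eq_of_le (Ideal.IsPrime.comap _).ne_top
        (Ideal.map_le_iff_le_comap.1 (le_sup_right.trans hle))).symm
    obtain ⟨a, ha, m, hm, ham⟩ := Submodule.mem_sup.1 (htop.ge (Submodule.mem_top (x := (1 : B ⊗[R] A₁))))
    obtain ⟨s, hs⟩ := exists_finset_mem_map (maximalIdeal A₁) hm
    let A₀ : Subalgebra R A₁ := Algebra.adjoin R (↑s : Set A₁)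
    haveI : Algebra.FiniteType R A₀ := (Subalgebra.fg_iff_finiteType A₀).mp (Subalgebra.fg_adjoin_finset s)
    haveI : IsNoetherianRing A₀ := Algebra.FiniteType.isNoetherianRing R A₀
    obtain ⟨m', hm', hmm'⟩ := hs A₀ Algebra.subset_adjoin
    let β₀ : B ⊗[R] A₀ →ₐ[R] C := βT.comp (Algebra.TensorProduct.map (AlgHom.id R B) A₀.val)
    have hβm : β₀ (1 - m') = 0 := by
      show βT (Algebra.TensorProduct.map (AlgHom.id R B) A₀.val (1 - m')) = 0
      rw [map_sub, map_one, hmm', ← ham, add_sub_cancel_right]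
      exact ha
    let m₀ : Ideal A₀ := (maximalIdeal A₁).comap A₀.val
    haveI : m₀.IsPrime := Ideal.IsPrime.comap _
    suffices ∃ w₀ : PrimeSpectrum (B ⊗[R] A₀),
        w₀.asIdeal.comap (Algebra.TensorProduct.includeRight : A₀ →ₐ[R] B ⊗[R] A₀) = m₀ ∧
          RingHom.ker β₀ ≤ w₀.asIdeal by
      obtain ⟨w₀, hw₀m, hw₀k⟩ := this
      refine w₀.2.ne_top ((Ideal.eq_top_iff_one _).2 ?_)
      have h₁ : m' ∈ w₀.asIdeal := Ideal.map_le_iff_le_comap.2 hw₀m.ge hm'
      have h₂ : 1 - m' ∈ w₀.asIdeal := hw₀k hβm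
      simpa using add_mem h₂ h₁
    -- the finite level
    let g₀ := (yon S).map (toBase r A₀) ≫ c
    let θ₀ : A₀ →ₐ[R] K₁ := κ₁.comp A₀.val
    let p₀ : (yon S).obj (algObj r K₁) ⟶ pullback f g₀ := pullback.lift (pK ≫ pullback.fst f c)
      ((yon S).map (algMap r A₀ θ₀)) (by
        rw [Category.assoc, pullback.condition, reassoc_of% hpK]
        show _ = (yon S).map (algMap r A₀ θ₀) ≫ (yon S).map (toBase r A₀) ≫ c
        rw [← Category.assoc ((yon S).map (algMap r A₀ θ₀)), ← Functor.map_comp, algMap_toBase])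
    let π₀ := pmap f c g₀ (toBase r A₀) rfl
    have sπ : IsPullback π₀ (pullback.snd f g₀) (pullback.snd f c) ((yon S).map (toBase r A₀)) :=
      isPullback_pmap f c g₀ (toBase r A₀) rfl
    let e₀ : (yon S).obj (algObj r (B ⊗[R] A₀)) ⟶ pullback f g₀ :=
      sπ.lift ((yon S).map (algMap r B Algebra.TensorProduct.includeLeft) ≫ b)
        ((yon S).map (algMap r A₀ Algebra.TensorProduct.includeRight))
        (by rw [Category.assoc, hbπ, ← Functor.map_comp, ← Functor.map_comp, algMap_toBase, algMap_toBase])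
    have he₀ : e₀ ≫ pullback.snd f g₀ = (yon S).map (algMap r A₀ Algebra.TensorProduct.includeRight) :=
      sπ.lift_snd _ _ _
    have sE : IsPullback ((yon S).map (algMap r B Algebra.TensorProduct.includeLeft)) e₀ b π₀ := by
      refine IsPullback.of_bot ?_ (sπ.lift_fst _ _ _).symm sπ
      rw [he₀, hbπ]
      exact yon_isPullback (isPullback_algObj r A₀ B)
    have hp₀ : p₀ ≫ π₀ = pK := by
      apply pullback.hom_ext
      · rw [Category.assoc, show π₀ ≫ pullback.fst f c = pullback.fst f g₀ from pullback.lift_fst _ _ _,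
          pullback.lift_fst]
      · rw [Category.assoc, sπ.w, ← Category.assoc, pullback.lift_snd, hpK, ← Functor.map_comp, algMap_toBase]
    have hβL : β₀.comp Algebra.TensorProduct.includeLeft = χB := by
      ext x; simp [β₀, βT]
    have hβR : β₀.comp Algebra.TensorProduct.includeRight = χK.comp θ₀ := by
      ext x; simp [β₀, βT, θ₀]
    have sF : IsPullback ((yon S).map (algMap r (B ⊗[R] A₀) β₀)) ((yon S).map (algMap r K₁ χK)) e₀ p₀ := by
      refine IsPullback.of_right ?_ ?_ sE
      · rw [← Functor.map_comp, ← algMap_comp, hβL, hp₀]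
        exact sC
      · apply sπ.hom_ext
        · rw [Category.assoc, Category.assoc, hp₀, sπ.lift_fst, ← Category.assoc, ← Functor.map_comp,
            ← algMap_comp, hβL, sC.w]
        · rw [Category.assoc, Category.assoc, he₀, pullback.lift_snd, ← Functor.map_comp, ← Functor.map_comp,
            ← algMap_comp, ← algMap_comp, hβR]
    let k : (algObj r K₁).left := closedPoint K₁
    have hrange : ∀ w, Points.ofPt e₀ w = Points.ofPt p₀ k → RingHom.ker β₀ ≤ w.asIdeal := fun w hw => by
      obtain ⟨x, hx, -⟩ := (ofPt_eq_iff sF w k).1 hw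
      intro y hy
      rw [← hx]
      show β₀ y ∈ (x : PrimeSpectrum C).asIdeal
      rw [RingHom.mem_ker.1 hy]
      exact Submodule.zero_mem _
    let sm : (algObj r A₀).left := (⟨m₀, inferInstance⟩ : PrimeSpectrum A₀)
    have he₀pt : ∀ w, Points.map (pullback.snd f g₀) (Points.ofPt e₀ w) =
        Points.ofPt (𝟙 _) ((algMap r A₀ Algebra.TensorProduct.includeRight).left w) := fun w => by
      rw [Points.map_ofPt, he₀, ← Category.comp_id ((yon S).map _), ofPt_comp]
    obtain ⟨z₀, hz₀, hz₀s⟩ : ∃ z₀, z₀ ∈ closure {Points.ofPt p₀ k} ∧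
        Points.map (pullback.snd f g₀) z₀ = Points.ofPt (𝟙 _) sm := by
      have hPU : IsAlgSpace (pullback (h ≫ f) g₀) := isAlgSpace_pullback _ _ hU (IsAlgSpace.yon_obj _) hY
      let tU : (yon S).obj (algObj r K₁) ⟶ pullback (h ≫ f) g₀ := pullback.lift ((yon S).map ψ₁o ≫ t)
        ((yon S).map (algMap r A₀ θ₀)) (by
          rw [Category.assoc, reassoc_of% ht]
          have e : (yon S).map ψ₁o ≫ sq.top = p₀ ≫ pullback.fst f g₀ :=
            ((pullback.lift_fst _ _ _).trans (pullback.lift_fst _ _ _)).symm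
          exact (Category.assoc _ _ _).symm.trans (((congrArg (· ≫ f) e).trans (Category.assoc _ _ _)).trans
            ((congrArg (p₀ ≫ ·) pullback.condition).trans ((Category.assoc _ _ _).symm.trans
              (congrArg (· ≫ g₀) (pullback.lift_snd _ _ _))))))
      obtain ⟨Z, zc, z, hZ, hzc, hz⟩ := exists_affine_chart_point hPU (Points.ofPt tU k)
      obtain ⟨qZ, hqZ⟩ := (yon S).map_surjective (zc ≫ pullback.snd (h ≫ f) g₀)
      haveI : IsLocallyNoetherian (algObj r A₀).left :=
        inferInstanceAs (IsLocallyNoetherian (Spec (CommRingCat.of A₀)))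
      haveI : LocallyOfFiniteType qZ.left :=
        locP_baseChange hU hY (IsAlgSpace.yon_obj _) (IsPullback.of_hasPullback (h ≫ f) g₀) hlft zc (𝟙 _) qZ hzc
          (repWith_id _ _) (by rw [Category.comp_id, hqZ])
      have hqz : qZ.left z = (algMap r A₀ θ₀).left k := Groth.Agent.AlgSpUnivClosed.ofPt_id_injective (by
        rw [← ofPt_comp, Category.comp_id, hqZ, ← Points.map_ofPt, hz, Points.map_ofPt, pullback.lift_snd,
          ← ofPt_comp, Category.comp_id])
      have hspec : qZ.left z ⤳ sm := by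
        rw [hqz]
        refine (PrimeSpectrum.le_iff_specializes _ _).1 fun y hy => ?_
        have hy' : θ₀ y = 0 := (mem_asIdeal_iff_of_field θ₀.toRingHom y).1 hy
        have : (y : A₁) = 0 := IsFractionRing.injective A₁ K₁ (hy'.trans (map_zero _).symm)
        show (y : A₁) ∈ maximalIdeal A₁
        rw [this]
        exact Submodule.zero_mem _
      let hU₀ : pullback (h ≫ f) g₀ ⟶ pullback f g₀ :=
        pullback.lift (pullback.fst _ _ ≫ h) (pullback.snd _ _) (by rw [Category.assoc, pullback.condition])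
      have htp : tU ≫ hU₀ = p₀ := by
        apply pullback.hom_ext
        · rw [Category.assoc, pullback.lift_fst, pullback.lift_fst_assoc, pullback.lift_fst, Category.assoc, ht]
          exact (pullback.lift_fst _ _ _).symm
        · rw [Category.assoc, pullback.lift_snd, pullback.lift_snd, pullback.lift_snd]
      rcases eq_or_ne sm (qZ.left z) with heq | hne
      · refine ⟨Points.ofPt p₀ k, subset_closure rfl, ?_⟩
        rw [Points.map_ofPt, pullback.lift_snd, ← Category.comp_id ((yon S).map _), ofPt_comp, heq, hqz]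
      obtain ⟨D, β, hD, hβ, hw⟩ := Groth.Agent.S4450.result qZ.left z sm hspec hne
      haveI := hD
      let β' : Over.mk (β ≫ (algObj r A₀).hom) ⟶ algObj r A₀ := Over.homMk β rfl
      let zo : Over.mk (Spec.map (CommRingCat.ofHom (algebraMap D (Z.left.residueField z))) ≫ β ≫ (algObj r A₀).hom) ⟶ Z :=
        Over.homMk (Z.left.fromSpecResidueField z) (by
          show Z.left.fromSpecResidueField z ≫ Z.hom = Spec.map _ ≫ β ≫ (algObj r A₀).hom
          rw [← Over.w qZ, ← Category.assoc, ← hw, Category.assoc]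
          rfl)
      let jd : Over.mk (Spec.map (CommRingCat.ofHom (algebraMap D (Z.left.residueField z))) ≫ β ≫ (algObj r A₀).hom) ⟶
          Over.mk (β ≫ (algObj r A₀).hom) :=
        Over.homMk (Spec.map (CommRingCat.ofHom (algebraMap D (Z.left.residueField z)))) rfl
      have hzo : zo ≫ qZ = jd ≫ β' := Over.OverMorphism.ext hw.symm
      let sqD : ValSq (h ≫ f) :=
        { A := D, K := Z.left.residueField z, str := β ≫ (algObj r A₀).hom
          top := (yon S).map zo ≫ zc ≫ pullback.fst (h ≫ f) g₀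
          bot := (yon S).map β' ≫ g₀
          comm := by
            rw [Category.assoc, Category.assoc, pullback.condition, ← Category.assoc zc, ← hqZ]
            have e := congrArg (fun u => (yon S).map u ≫ g₀) hzo
            simp only [Functor.map_comp, Category.assoc] at e
            exact e }
      obtain ⟨l, hl₁', hl₂'⟩ := hval sqD hD
      let L : (yon S).obj sqD.ptA ⟶ pullback f g₀ := pullback.lift l ((yon S).map β') hl₂'
      have hL : (yon S).map sqD.j ≫ L = (yon S).map zo ≫ zc ≫ hU₀ := by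
        apply pullback.hom_ext
        · rw [Category.assoc, pullback.lift_fst, hl₁', Category.assoc, Category.assoc, Category.assoc, Category.assoc,
            pullback.lift_fst]
        · rw [Category.assoc, pullback.lift_snd, Category.assoc, Category.assoc, pullback.lift_snd, ← hqZ,
            ← Functor.map_comp, ← Functor.map_comp]
          exact congrArg (yon S).map hzo.symm
      let kD : sqD.ptK.left := closedPoint (Z.left.residueField z)
      let κD : sqD.ptA.left := closedPoint D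
      refine ⟨Points.ofPt L κD, ?_, ?_⟩
      · rw [← specializes_iff_mem_closure]
        have hη : Points.ofPt L (sqD.j.left kD) = Points.ofPt p₀ k := by
          rw [← ofPt_comp, hL, ofPt_comp, show zo.left kD = z from Scheme.fromSpecResidueField_apply _ _,
            ← Points.map_ofPt, hz, Points.map_ofPt, htp]
        rw [← hη]
        exact (specializes_closedPoint (R := D) (sqD.j.left kD)).map (Points.continuous_ofPt L)
      · rw [Points.map_ofPt, pullback.lift_snd, ← Category.comp_id ((yon S).map β'), ofPt_comp]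
        exact congrArg _ hβ
    obtain ⟨w₀, rfl⟩ := surjective_ofPt (repWith_baseChange sE hbs) z₀
    refine ⟨w₀, congrArg PrimeSpectrum.asIdeal (Groth.Agent.AlgSpUnivClosed.ofPt_id_injective
      (T := algObj r A₀) ((he₀pt w₀).symm.trans hz₀s)), ?_⟩
    have hcl : w₀ ∈ closure (Points.ofPt e₀ ⁻¹' {Points.ofPt p₀ k}) := by
      rw [← (isOpenMap_ofPt_of_etale (repWith_baseChange sE hb)).preimage_closure_eq_closure_preimage
        (Points.continuous_ofPt e₀)]
      exact hz₀
    have hsub : Points.ofPt e₀ ⁻¹' {Points.ofPt p₀ k} ⊆ PrimeSpectrum.zeroLocus (RingHom.ker β₀ : Set (B ⊗[R] A₀)) :=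
      fun w hw => (PrimeSpectrum.mem_zeroLocus _ _).2 (hrange w hw)
    exact (PrimeSpectrum.mem_zeroLocus _ _).1 (closure_minimal hsub (PrimeSpectrum.isClosed_zeroLocus _) hcl)
  -- the valuation ring
  obtain ⟨P₀, hP₀, hP₀ω⟩ := Ideal.exists_minimalPrimes_le hωker
  obtain ⟨Q, hQ, -, hQP⟩ := Ideal.exists_comap_eq_of_mem_minimalPrimes (I := ⊥) βT.toRingHom P₀ hP₀
  let xQ : (algObj r C).left := (⟨Q, hQ⟩ : PrimeSpectrum C)
  let m := algMap r (B ⊗[R] A₁) βT
  have hspec : m.left xQ ⤳ (ω : (algObj r (B ⊗[R] A₁)).left) :=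
    (PrimeSpectrum.le_iff_specializes _ _).1 (hQP.le.trans hP₀ω)
  obtain ⟨A, _, _, _, _, _, β, hβ, hβω⟩ := exists_valuation_over m.left xQ hspec
  let iR := algMap r A₁ (Algebra.TensorProduct.includeRight : A₁ →ₐ[R] B ⊗[R] A₁)
  let iL := algMap r B (Algebra.TensorProduct.includeLeft : B →ₐ[R] B ⊗[R] A₁)
  let φ' : A₁ →+* A := (Spec.preimage (β ≫ iR.left : Spec (CommRingCat.of A) ⟶ Spec (CommRingCat.of A₁))).hom
  let ψ' : K₁ →+* (algObj r C).left.residueField xQ :=
    (Spec.preimage ((algObj r C).left.fromSpecResidueField xQ ≫ (algMap r K₁ χK).left :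
      Spec ((algObj r C).left.residueField xQ) ⟶ Spec (CommRingCat.of K₁))).hom
  have hφ' : Spec.map (CommRingCat.ofHom φ') = β ≫ iR.left := Spec.map_preimage _
  have hψ' : Spec.map (CommRingCat.ofHom ψ') =
      (algObj r C).left.fromSpecResidueField xQ ≫ (algMap r K₁ χK).left := Spec.map_preimage _
  have hmR : m ≫ iR = algMap r K₁ χK ≫ algMap r A₁ κ₁ := by
    rw [← algMap_comp, ← algMap_comp]
    congr 1
    ext x
    simp [βT]
  have hcomm' : (algebraMap A ((algObj r C).left.residueField xQ)).comp φ' = ψ'.comp (algebraMap A₁ K₁) := by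
    have : CommRingCat.ofHom ((algebraMap A ((algObj r C).left.residueField xQ)).comp φ') =
        CommRingCat.ofHom (ψ'.comp (algebraMap A₁ K₁)) := by
      apply Spec.map_injective
      rw [CommRingCat.ofHom_comp, CommRingCat.ofHom_comp]
      erw [Spec.map_comp, Spec.map_comp]
      rw [hφ', hψ']
      refine (((Category.assoc _ _ _).symm.trans (congrArg (· ≫ iR.left) hβ.symm)).trans ?_)
      refine (Category.assoc _ _ _).trans ((congrArg (fun u => (algObj r C).left.fromSpecResidueField xQ ≫ u)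
        (congrArg (fun u => u.left) hmR)).trans ?_)
      exact (Category.assoc _ _ _).symm
    exact congrArg CommRingCat.Hom.hom this
  haveI := hφ₁loc
  haveI : IsLocalHom φ' := by
    rw [isLocalHom_iff_comap_closedPoint]
    show Spec.map (CommRingCat.ofHom φ') (closedPoint A) = closedPoint A₁
    erw [hφ', Scheme.Hom.comp_apply, hβω]
    exact PrimeSpectrum.ext hωm
  let e : sq.DomExt :=
    { A' := A, K' := (algObj r C).left.residueField xQ, φ := φ'.comp φ₁, ψ := ψ'.comp ψ₁
      comm := by rw [← RingHom.comp_assoc, hcomm', RingHom.comp_assoc, RingHom.comp_assoc, hψ₁]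
      isLocalHom := RingHom.isLocalHom_comp _ _ }
  have hAr : Spec.map (CommRingCat.ofHom (φ'.comp φ₁)) ≫ sq.str = β ≫ (algObj r (B ⊗[R] A₁)).hom := by
    rw [← spec_w, ← hρ₁r, hφ']
    exact (Category.assoc _ _ _).trans (congrArg (β ≫ ·) (Over.w iR))
  let βo : e.ptA' ⟶ algObj r (B ⊗[R] A₁) := Over.homMk β hAr.symm
  refine ⟨e, (yon S).map βo ≫ (yon S).map iL ≫ b ≫ pullback.fst f c, ?_, ?_⟩
  · let xo : e.ptK' ⟶ algObj r C := Over.homMk ((algObj r C).left.fromSpecResidueField xQ) (by
      show _ = Spec.map _ ≫ Spec.map (CommRingCat.ofHom (φ'.comp φ₁)) ≫ sq.str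
      rw [hAr, ← Category.assoc, ← hβ, Category.assoc, Over.w m])
    have e₁ : (yon S).map (xo ≫ algMap r B χB) ≫ b ≫ pullback.fst f c =
        (yon S).map (xo ≫ algMap r K₁ χK) ≫ (yon S).map ψ₁o ≫ sq.top := by
      rw [Functor.map_comp, Functor.map_comp, Category.assoc ((yon S).map xo)]
      refine Eq.trans ?_ (Category.assoc _ _ _).symm
      exact congrArg ((yon S).map xo ≫ ·) ((Category.assoc _ _ _).symm.trans
        ((congrArg (· ≫ pullback.fst f c) sC.w).trans ((Category.assoc _ _ _).trans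
          (congrArg ((yon S).map (algMap r K₁ χK) ≫ ·) (pullback.lift_fst _ _ _)))))
    have hmL : m ≫ iL = algMap r B χB := by
      rw [← algMap_comp]
      congr 1
      ext x
      simp [βT]
    simp only [← Category.assoc, ← Functor.map_comp] at e₁ ⊢
    refine Eq.trans ?_ (e₁.trans ?_)
    · congr 3
      rw [← hmL]
      refine Over.OverMorphism.ext ?_
      show (Spec.map _ ≫ β) ≫ iL.left = (algObj r C).left.fromSpecResidueField xQ ≫ m.left ≫ iL.left
      rw [← hβ, Category.assoc]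
    · congr 2
      refine Over.OverMorphism.ext ?_
      show ((algObj r C).left.fromSpecResidueField xQ ≫ (algMap r K₁ χK).left) ≫ Spec.map _ = Spec.map _
      refine (congrArg (· ≫ Spec.map (CommRingCat.ofHom ψ₁)) hψ'.symm).trans ?_
      exact (Spec.map_comp _ _).symm
  · let x : e.ptA' ⟶ Over.mk (Spec.map (CommRingCat.ofHom φ₁) ≫ sq.str) := Over.homMk (β ≫ iR.left) (by
      show (β ≫ iR.left) ≫ Spec.map (CommRingCat.ofHom φ₁) ≫ sq.str = Spec.map (CommRingCat.ofHom (φ'.comp φ₁)) ≫ sq.str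
      exact (congrArg (· ≫ Spec.map (CommRingCat.ofHom φ₁) ≫ sq.str) hφ'.symm).trans (spec_w _ _ _))
    have e₁ := congrArg ((yon S).map x ≫ ·) hl₁
    simp only [Category.assoc]
    rw [pullback.condition, reassoc_of% hbπ]
    show (yon S).map βo ≫ (yon S).map iL ≫ (yon S).map (toBase r B) ≫ (yon S).map eV ≫ bV = _
    simp only [← Category.assoc, ← Functor.map_comp] at e₁ ⊢
    refine Eq.trans ?_ (e₁.trans ?_)
    · congr 2
      refine Over.OverMorphism.ext ?_
      show ((β ≫ iL.left) ≫ (toBase r B).left) ≫ V.left.isoSpec.inv = (β ≫ iR.left) ≫ lV.left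
      rw [← hlV, Category.assoc β, ← Over.comp_left, algMap_toBase, ← algMap_toBase r A₁
        (Algebra.TensorProduct.includeRight : A₁ →ₐ[R] B ⊗[R] A₁), Over.comp_left]
      simp only [Category.assoc]
      rfl
    · congr 2
      refine Over.OverMorphism.ext ?_
      show (β ≫ iR.left) ≫ Spec.map _ = Spec.map _
      exact (congrArg (· ≫ Spec.map (CommRingCat.ofHom φ₁)) hφ'.symm).trans (Spec.map_comp _ _).symm

/-- Properness from discrete valuation rings on a dense part. -/
theorem isUnivClosedMor_of_dvr_dense {U X Y : Sp S} (hU : IsAlgSpace U) (hX : IsAlgSpace X) (hY : IsAlgSpace Y)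
    {f : X ⟶ Y} {h : U ⟶ X} (hN : IsLocNoethSp Y) (hfs : IsSeparatedMor f) (hfl : LocP @LocallyOfFiniteType f)
    (hfq : IsQuasiCompactMor f) (hhl : LocP @LocallyOfFiniteType h) (hhq : IsQuasiCompactMor h)
    (hd : DenseRange (Points.map h))
    (hu : ∀ sq : ValSq f, sq.HasUniq)
    (hval : ∀ sq : ValSq (h ≫ f), IsDiscreteValuationRing sq.A →
      ∃ l : (yon S).obj sq.ptA ⟶ X, (yon S).map sq.j ≫ l = sq.top ≫ h ∧ l ≫ f = sq.bot) :
    IsUnivClosedMor f :=
  isUnivClosedMor_of_refined hU hX hY hfq hhq hd fun sq ht =>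
    ⟨hu sq, hasLiftExt_of_dvr_through hU hX hY hN hfs hfq (locP_comp hU hX hY hhl hfl) hval sq ht⟩

end Groth.Agent.AlgSpDvr
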