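import Groth.Agent.AlgSpDvr.Refined

/-!
Separatedness from discrete valuation rings on a dense part.
-/

set_option autoImplicit false
set_option backward.isDefEq.respectTransparency.types false

universe u

open CategoryTheory CategoryTheory.Limits AlgebraicGeometry Opposite AlgSp Topology

namespace Groth.Agent.AlgSpDvr

open Groth.Agent.AlgSpLib

variable {S : Scheme.{u}}

theorem isSeparatedMor_of_dvr_dense {U X Y : Sp S} (hU : IsAlgSpace U) (hX : IsAlgSpace X) (hY : IsAlgSpace Y)
    {f : X ⟶ Y} {h : U ⟶ X} (hN : IsLocNoethSp Y) (hqs : IsQuasiSeparatedMor f) (hfl : LocP @LocallyOfFiniteType f)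
    (hhl : LocP @LocallyOfFiniteType h) (hhq : IsQuasiCompactMor h) (hd : DenseRange (Points.map h))
    (hval : ∀ sq : ValSq (h ≫ f), IsDiscreteValuationRing sq.A → ∀ l l' : (yon S).obj sq.ptA ⟶ X,
      (yon S).map sq.j ≫ l = sq.top ≫ h ∧ l ≫ f = sq.bot →
      (yon S).map sq.j ≫ l' = sq.top ≫ h ∧ l' ≫ f = sq.bot → l = l') :
    IsSeparatedMor f := by
  have hR := isAlgSpace_pullback f f hX hX hY
  have hRN : IsLocNoethSp (pullback f f) :=
    isLocNoethSp_of_lft hR hY (f := pullback.fst f f ≫ f)
      (locP_comp hR hX hY (locP_baseChange hX hY hX (IsPullback.of_hasPullback f f).flip hfl) hfl) hN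
  have hΔl : LocP @LocallyOfFiniteType (pullback.diagonal f) :=
    locP_of_repWith (Groth.Agent.AlgSpPts.repWith_lft_lqf_diagonal hX hY f) fun _ _ _ k m hk hm => by
      haveI := hk
      haveI := hm.2
      infer_instance
  refine isSeparatedMor_of_diag_univClosed hX hY f (isUnivClosedMor_of_dvr_dense hU hX hR hRN
    (Groth.Agent.AlgStLib.isSeparatedMor_of_mono _) hΔl
    (Groth.Agent.AlgStLib.isQuasiCompactMor_of_repWith hX hR hqs) hhl hhq hd (fun sq => ?_) fun sq hA => ?_)
  · intro l l' _ hl _ hl'
    exact (cancel_mono (pullback.diagonal f)).1 (hl.trans hl'.symm)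
  have c₁ : (yon S).map sq.j ≫ sq.bot ≫ pullback.fst f f = sq.top ≫ h := by
    have := congrArg (· ≫ pullback.fst f f) sq.comm
    simp only [Category.assoc, pullback.diagonal_fst, Category.comp_id] at this
    exact this.symm
  have c₂ : (yon S).map sq.j ≫ sq.bot ≫ pullback.snd f f = sq.top ≫ h := by
    have := congrArg (· ≫ pullback.snd f f) sq.comm
    simp only [Category.assoc, pullback.diagonal_snd, Category.comp_id] at this
    exact this.symm
  let sq₁ : ValSq (h ≫ f) :=
    { A := sq.A, K := sq.K, str := sq.str, top := sq.top, bot := (sq.bot ≫ pullback.fst f f) ≫ f,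
      comm := (Category.assoc sq.top h f).symm.trans ((congrArg (· ≫ f) c₁.symm).trans (Category.assoc _ _ _)) }
  have e : sq.bot ≫ pullback.fst f f = sq.bot ≫ pullback.snd f f := hval sq₁ hA _ _ ⟨c₁, rfl⟩ ⟨c₂, by
    show (sq.bot ≫ pullback.snd f f) ≫ f = (sq.bot ≫ pullback.fst f f) ≫ f
    simp only [Category.assoc, pullback.condition]⟩
  refine ⟨sq.bot ≫ pullback.fst f f, c₁, ?_⟩
  apply pullback.hom_ext
  · simp only [Category.assoc, pullback.diagonal_fst, Category.comp_id]
  · simp only [Category.assoc, pullback.diagonal_snd, Category.comp_id]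
    exact e

end Groth.Agent.AlgSpDvr
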